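import Cfsg.Agent.Helper28.Fi22Sub
import Cfsg.Agent.Helper28.Fi22a.Main
import Cfsg.Agent.Helper28.Fi22P1.Main
import Cfsg.Agent.Helper28.Fi22P2.Main
import Cfsg.Agent.Helper28.Fi22P3.Main
import Cfsg.Agent.Helper28.Fi22P4.Main
set_option autoImplicit false
set_option linter.constructorNameAsVariable false
namespace Cfsg.Agent.Helper28.Fi22C
open Cfsg.Agent.Helper28 Cfsg.Spor

theorem hY0 : Fi22a.Y = Set.range (fun z => FreeGroup.of (Fi22P1D.iota z)) := by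
  ext y
  constructor
  · intro (h : y ∈ Fi22a.Ylist)
    simp only [Fi22a.Ylist, List.mem_cons, List.not_mem_nil, or_false] at h
    rcases h with rfl | rfl | rfl | rfl | rfl | rfl | rfl | rfl
    exacts [⟨.b, rfl⟩, ⟨.c, rfl⟩, ⟨.d, rfl⟩, ⟨.e, rfl⟩, ⟨.f, rfl⟩, ⟨.g, rfl⟩, ⟨.h, rfl⟩, ⟨.i, rfl⟩]
  · rintro ⟨z, rfl⟩
    show _ ∈ Fi22a.Ylist
    cases z <;> simp [Fi22a.Ylist, Fi22P1D.iota]

theorem hY1 : Fi22P1.Y = Set.range (fun z => FreeGroup.of (Fi22P2D.iota z)) := by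
  ext y
  constructor
  · intro (h : y ∈ Fi22P1.Ylist)
    simp only [Fi22P1.Ylist, List.mem_cons, List.not_mem_nil, or_false] at h
    rcases h with rfl | rfl | rfl | rfl | rfl | rfl | rfl
    exacts [⟨.b, rfl⟩, ⟨.c, rfl⟩, ⟨.d, rfl⟩, ⟨.e, rfl⟩, ⟨.f, rfl⟩, ⟨.h, rfl⟩, ⟨.i, rfl⟩]
  · rintro ⟨z, rfl⟩
    show _ ∈ Fi22P1.Ylist
    cases z <;> simp [Fi22P1.Ylist, Fi22P2D.iota]

theorem hY2 : Fi22P2.Y = Set.range (fun z => FreeGroup.of (Fi22P3D.iota z)) := by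
  ext y
  constructor
  · intro (h : y ∈ Fi22P2.Ylist)
    simp only [Fi22P2.Ylist, List.mem_cons, List.not_mem_nil, or_false] at h
    rcases h with rfl | rfl | rfl | rfl | rfl | rfl
    exacts [⟨.c, rfl⟩, ⟨.d, rfl⟩, ⟨.e, rfl⟩, ⟨.f, rfl⟩, ⟨.h, rfl⟩, ⟨.i, rfl⟩]
  · rintro ⟨z, rfl⟩
    show _ ∈ Fi22P2.Ylist
    cases z <;> simp [Fi22P2.Ylist, Fi22P3D.iota]

theorem hY3 : Fi22P3.Y = Set.range (fun z => FreeGroup.of (Fi22P4D.iota z)) := by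
  ext y
  constructor
  · intro (h : y ∈ Fi22P3.Ylist)
    simp only [Fi22P3.Ylist, List.mem_cons, List.not_mem_nil, or_false] at h
    rcases h with rfl | rfl | rfl | rfl | rfl
    exacts [⟨.d, rfl⟩, ⟨.e, rfl⟩, ⟨.f, rfl⟩, ⟨.h, rfl⟩, ⟨.i, rfl⟩]
  · rintro ⟨z, rfl⟩
    show _ ∈ Fi22P3.Ylist
    cases z <;> simp [Fi22P3.Ylist, Fi22P4D.iota]

theorem hY4 : Fi22P4.Y = ∅ := by
  ext y; simp [Fi22P4.Ylist]

theorem upper4 : Finite (PresentedGroup Fi22P4.R) ∧ Nat.card (PresentedGroup Fi22P4.R) = 720 :=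
  card_of_index_bot Fi22P4.R Fi22P4.Y hY4 720 (by omega) Fi22P4.main_index

theorem upper3 : Finite (PresentedGroup Fi22P3.R) ∧
    Nat.card (PresentedGroup Fi22P3.R) ≤ 72 * 720 := by
  obtain ⟨h1, h2, -⟩ := card_le_of_link Fi22P4D.iota Fi22P4.R Fi22P3.R Fi22P4D.hrels
    Fi22P3.Y hY3 72 (720) (by omega) Fi22P3.main_index upper4.1 (le_of_eq upper4.2)
  exact ⟨h1, h2⟩

theorem upper2 : Finite (PresentedGroup Fi22P2.R) ∧
    Nat.card (PresentedGroup Fi22P2.R) ≤ 243 * (72 * 720) := by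
  obtain ⟨h1, h2, -⟩ := card_le_of_link Fi22P3D.iota Fi22P3.R Fi22P2.R Fi22P3D.hrels
    Fi22P2.Y hY2 243 (72 * 720) (by omega) Fi22P2.main_index upper3.1 upper3.2
  exact ⟨h1, h2⟩

theorem upper1 : Finite (PresentedGroup Fi22P1.R) ∧
    Nat.card (PresentedGroup Fi22P1.R) ≤ 364 * (243 * (72 * 720)) := by
  obtain ⟨h1, h2, -⟩ := card_le_of_link Fi22P2D.iota Fi22P2.R Fi22P1.R Fi22P2D.hrels
    Fi22P1.Y hY1 364 (243 * (72 * 720)) (by omega) Fi22P1.main_index upper2.1 upper2.2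
  exact ⟨h1, h2⟩

theorem upper0 : Finite (PresentedGroup Fi22a.R) ∧
    Nat.card (PresentedGroup Fi22a.R) ≤ 14080 * (364 * (243 * (72 * 720))) := by
  obtain ⟨h1, h2, -⟩ := card_le_of_link Fi22P1D.iota Fi22P1.R Fi22a.R Fi22P1D.hrels
    Fi22a.Y hY0 14080 (364 * (243 * (72 * 720))) (by omega) Fi22a.main_index upper1.1 upper1.2
  exact ⟨h1, h2⟩

theorem upper : Finite (PresentedGroup Fi22a.R) ∧ Nat.card (PresentedGroup Fi22a.R) ≤ 64561751654400 :=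
  ⟨upper0.1, le_trans upper0.2 (by norm_num)⟩

end Cfsg.Agent.Helper28.Fi22C
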